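import Mathlib
import Cfsg.Agent.Lib.ChevIso.Bracket
import Cfsg.Agent.Lib.Chevalley.Tbl.G2Cols

/-!
# The long root subsystem of `G₂`: tables

The Lie algebra of type `G₂` splits for the long roots as `sl₃ ⊕ V ⊕ V*`; we realise it linearly by
`7 × 7` block matrices on which root elements of long roots act by conjugation.
-/

set_option autoImplicit false
set_option linter.unusedSectionVars false
set_option linter.unusedSimpArgs false
set_option linter.unusedVariables false

namespace Cfsg.Agent.Lib.Classical.Lin.G2Tbl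

open Cfsg.Lie Matrix Cfsg.Agent.Lib.Chevalley.Reflect Cfsg.Agent.Lib.ChevIso.Act
open Cfsg.Agent.Lib.ChevIso.Bracket

/-- The index set of the block matrices. -/
abbrev I7 : Type := Unit ⊕ (Fin 3 ⊕ Fin 3)

/-- Encoding of the indices. -/
def E7 : Enc I7 where
  cd := Sum.elim (fun _ => 0) (Sum.elim (fun i => 1 + i.val) (fun i => 4 + i.val))
  dc k := if k = 0 then .inl () else
    if h : k < 4 then .inr (.inl ⟨(k - 1) % 3, Nat.mod_lt _ (by norm_num)⟩)
    else .inr (.inr ⟨(k - 4) % 3, Nat.mod_lt _ (by norm_num)⟩)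
  dc_cd := by
    rintro (u | i | i)
    · rfl
    · fin_cases i <;> rfl
    · fin_cases i <;> rfl
  L := [0, 1, 2, 3, 4, 5, 6]
  mem := by
    rintro (u | i | i)
    · simp
    · fin_cases i <;> simp
    · fin_cases i <;> simp

/-- The root matrices. -/
def bl (r : ℕ) : SpM :=
  match r with
  | 0 => [(3, 1, 1), (4, 6, -1)]
  | 1 => [(3, 2, 1), (5, 6, -1)]
  | 2 => [(3, 0, 1), (0, 6, 1)]
  | 3 => [(4, 0, 1), (0, 1, 1)]
  | 4 => [(5, 0, 1), (0, 2, 1)]
  | 5 => [(2, 1, 1), (4, 5, -1)]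
  | 6 => [(1, 2, 1), (5, 4, -1)]
  | 7 => [(2, 0, 1), (0, 5, 1)]
  | 8 => [(1, 0, 1), (0, 4, 1)]
  | 9 => [(6, 0, 1), (0, 3, 1)]
  | 10 => [(2, 3, 1), (6, 5, -1)]
  | 11 => [(1, 3, 1), (6, 4, -1)]
  | _ => []

/-- The matrices of the `h_{p_i}`. -/
def hl (i : ℕ) : SpM :=
  match i with
  | 0 => [(1, 1, -1), (2, 2, 2), (3, 3, -1), (4, 4, 1), (5, 5, -2), (6, 6, 1)]
  | 1 => [(1, 1, 1), (2, 2, -1), (4, 4, -1), (5, 5, 1)]
  | _ => []

/-- The matrix of a basis vector. -/
def pl (k : ℕ) : SpM := if k < 2 then hl k else bl (k - 2)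

/-- The entries. -/
def Pz (k i j : ℕ) : ℤ := evZ (pl k) i j

/-- The checks for one column. -/
def chk (r k : ℕ) : Bool :=
  (xCol chevG2 r k).all (fun e => decide (e.deg = 1 ∨ e.deg = 2) && decide (e.row < 14)) &&
  E7.L.all fun i => E7.L.all fun j =>
    decide (Lz (bl r) (Pz k) i j = Sz Pz 1 (xCol chevG2 r k) i j + Rz (bl r) (Pz k) i j) &&
    decide (Sz Pz 2 (xCol chevG2 r k) i j + Rz (bl r) (Sz Pz 1 (xCol chevG2 r k)) i j = 0) &&
    decide (Rz (bl r) (Sz Pz 2 (xCol chevG2 r k)) i j = 0)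

/-- The long roots. -/
def lr : List ℕ := [0, 1, 5, 6, 10, 11]

theorem chk_all : lr.all (fun r => (List.range 14).all fun k => chk r k) = true := by
  decide +kernel

/-- The columns. -/
noncomputable abbrev cl : ℕ → ℕ → Cl := colOf Cfsg.Agent.Lib.Chevalley.Tbl.G2.cols

theorem bchk_all : (List.range 12).all (fun r => (List.range 14).all fun i => (List.range 14).all fun j =>
    bchk chevG2 cl r i j) = true := by
  decide +kernel

/-- The codes of `sl₃`. -/
def slc : List ℕ := [0, 1, 2, 3, 7, 8, 12, 13]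

/-- The codes of `V ⊕ V*`. -/
def shc : List ℕ := [4, 5, 6, 9, 10, 11]

/-- The bracket of `sl₃` with `V ⊕ V*` is the commutator of the matrices. -/
theorem brchk_all : slc.all (fun k => shc.all fun l => E7.L.all fun i => E7.L.all fun j =>
    decide (((cB chevG2 cl k l).map fun p => p.2 * Pz p.1 i j).sum =
      Lz (pl k) (Pz l) i j - Rz (pl k) (Pz l) i j) &&
    (cB chevG2 cl k l).all fun p => decide (p.1 < 14)) = true := by
  decide +kernel

end Cfsg.Agent.Lib.Classical.Lin.G2Tbl
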