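import Mathlib
import Cfsg.Agent.Lib.Classical.Lin.G2Tbl

/-!
# Coordinates on the Lie algebra of type `G₂` for the long root subsystem
-/

set_option autoImplicit false
set_option linter.unusedSectionVars false
set_option linter.unusedSimpArgs false
set_option linter.unusedVariables false
set_option linter.unnecessarySeqFocus false

namespace Cfsg.Agent.Lib.Classical.Lin.G2Coord

open Cfsg.Lie Matrix Cfsg.Agent.Lib.Chevalley.Reflect Cfsg.Agent.Lib.ChevIso.Act
open Cfsg.Agent.Lib.ChevIso.Bracket Cfsg.Agent.Lib.Classical.Lin.G2Tbl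

variable {F : Type*} [Field F]

/-- The Lie algebra. -/
abbrev LL (F : Type*) := chevG2.Idx → F

/-- Coordinates of the Cartan part. -/
abbrev hc (i : Fin 2) : chevG2.Idx := Sum.inl i
/-- Coordinates of the root part. -/
abbrev rc (r : Fin 12) : chevG2.Idx := Sum.inr r

theorem sum_idx {M : Type*} [AddCommMonoid M] (f : chevG2.Idx → M) :
    ∑ c, f c = f (hc 0) + f (hc 1) + (f (rc 0) + f (rc 1) + f (rc 2) + f (rc 3) + f (rc 4) + f (rc 5) +
      f (rc 6) + f (rc 7) + f (rc 8) + f (rc 9) + f (rc 10) + f (rc 11)) := by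
  rw [Fintype.sum_sum_type]
  have h1 : ∑ i : Fin chevG2.rank, f (Sum.inl i) = f (hc 0) + f (hc 1) := Fin.sum_univ_two (fun i : Fin 2 => f (hc i))
  have h2 : ∑ r : Fin chevG2.nroots, f (Sum.inr r) = f (rc 0) + f (rc 1) + f (rc 2) + f (rc 3) + f (rc 4) + f (rc 5) +
      f (rc 6) + f (rc 7) + f (rc 8) + f (rc 9) + f (rc 10) + f (rc 11) := by
    show ∑ r : Fin 12, f (rc r) = _
    simp only [Fin.sum_univ_castSucc, Fin.sum_univ_zero, zero_add]
    rfl
  rw [h1, h2]

/-- Coordinates on the natural module. -/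
def vof (w : LL F) : Fin 3 → F := ![w (rc 8), w (rc 7), w (rc 2)]
/-- Coordinates on the dual module. -/
def uof (w : LL F) : Fin 3 → F := ![w (rc 3), w (rc 4), w (rc 9)]
/-- Coordinates on `sl₃`. -/
def Xof (w : LL F) : Matrix (Fin 3) (Fin 3) F :=
  !![w (hc 1) - w (hc 0), w (rc 6), w (rc 11);
     w (rc 5), 2 * w (hc 0) - w (hc 1), w (rc 10);
     w (rc 0), w (rc 1), - w (hc 0)]

/-- The block matrix. -/
def M7 (X : Matrix (Fin 3) (Fin 3) F) (v u : Fin 3 → F) : Matrix I7 I7 F :=
  Matrix.of fun a b =>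
    match a, b with
    | .inl _, .inl _ => 0
    | .inl _, .inr (.inl j) => u j
    | .inl _, .inr (.inr j) => v j
    | .inr (.inl i), .inl _ => v i
    | .inr (.inr i), .inl _ => u i
    | .inr (.inl i), .inr (.inl j) => X i j
    | .inr (.inr i), .inr (.inr j) => - X j i
    | .inr (.inl _), .inr (.inr _) => 0
    | .inr (.inr _), .inr (.inl _) => 0

/-- The matrix of a basis vector. -/
def P (k : ℕ) : Matrix I7 I7 F := matF E7 F (Pz k)

/-- The matrix of a vector of the Lie algebra. -/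
noncomputable def Pt (w : LL F) : Matrix I7 I7 F := ∑ c, w c • P (code chevG2 c)

lemma Pt_apply (w : LL F) (a b : I7) :
    Pt w a b = ∑ c, w c * ((Pz (code chevG2 c) (E7.cd a) (E7.cd b) : ℤ) : F) := by
  simp [Pt, P, Matrix.sum_apply, matF_apply]

set_option maxHeartbeats 4000000 in
theorem Pt_eq (w : LL F) : Pt w = M7 (Xof w) (vof w) (uof w) := by
  ext a b
  rw [Pt_apply, sum_idx]
  rcases a with u | i | i <;> rcases b with u' | j | j
  all_goals
    (try cases u) <;> (try cases u') <;> (try fin_cases i) <;> (try fin_cases j) <;>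
    simp [E7, Pz, pl, bl, hl, evZ, code, M7, chevG2, uof, vof, Xof] <;> try ring

end Cfsg.Agent.Lib.Classical.Lin.G2Coord
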