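import Mathlib
import Cfsg.Agent.Lib.Classical.Lin.G2Coord

/-!
# Root elements of long roots of `G₂` act through `SL₃`
-/

set_option autoImplicit false
set_option linter.unusedSectionVars false
set_option linter.unusedSimpArgs false
set_option linter.unusedVariables false
set_option linter.unnecessarySeqFocus false

namespace Cfsg.Agent.Lib.Classical.Lin.G2Cov

open Cfsg.Lie Matrix Cfsg.Agent.Lib.Chevalley.Reflect Cfsg.Agent.Lib.ChevIso.Act
open Cfsg.Agent.Lib.ChevIso.Bracket Cfsg.Agent.Lib.Classical.Lin.G2Tbl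
open Cfsg.Agent.Lib.Classical.Lin.G2Coord

variable {F : Type*} [Field F]

/-- The block diagonal matrices. -/
def D7 (A A' : Matrix (Fin 3) (Fin 3) F) : Matrix I7 I7 F :=
  Matrix.of fun a b =>
    match a, b with
    | .inl _, .inl _ => 1
    | .inr (.inl i), .inr (.inl j) => A i j
    | .inr (.inr i), .inr (.inr j) => A' i j
    | _, _ => 0

theorem D7_mul_D7 (A A' B B' : Matrix (Fin 3) (Fin 3) F) : D7 A A' * D7 B B' = D7 (A * B) (A' * B') := by
  ext a b
  rw [Matrix.mul_apply, Fintype.sum_sum_type, Fintype.sum_sum_type]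
  rcases a with u | i | i <;> rcases b with u' | j | j <;>
    simp [D7, Matrix.mul_apply]

theorem D7_one : D7 (1 : Matrix (Fin 3) (Fin 3) F) 1 = 1 := by
  ext a b
  rcases a with u | i | i <;> rcases b with u' | j | j <;>
    simp [D7, Matrix.one_apply]

theorem D7_M7 (A B : Matrix (Fin 3) (Fin 3) F) (X : Matrix (Fin 3) (Fin 3) F) (v u : Fin 3 → F) :
    D7 A Bᵀ * M7 X v u * D7 B Aᵀ = M7 (A * X * B) (A *ᵥ v) (Bᵀ *ᵥ u) := by
  ext a b
  rw [Matrix.mul_apply, Fintype.sum_sum_type, Fintype.sum_sum_type]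
  simp only [Matrix.mul_apply, Fintype.sum_sum_type]
  rcases a with u' | i | i <;> rcases b with u'' | j | j <;>
    simp [D7, M7, Matrix.mul_apply, Matrix.mulVec, dotProduct, Finset.mul_sum, Finset.sum_mul]
  · exact Finset.sum_congr rfl fun x _ => mul_comm _ _
  · exact Finset.sum_congr rfl fun x _ => mul_comm _ _
  · rw [Finset.sum_comm]
    exact Finset.sum_congr rfl fun x _ => Finset.sum_congr rfl fun y _ => by ring

theorem M7_inj {X X' : Matrix (Fin 3) (Fin 3) F} {v v' u u' : Fin 3 → F} (h : M7 X v u = M7 X' v' u') :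
    X = X' ∧ v = v' ∧ u = u' := by
  refine ⟨?_, ?_, ?_⟩
  · ext i j
    exact congrFun (congrFun h (.inr (.inl i))) (.inr (.inl j))
  · ext i
    exact congrFun (congrFun h (.inr (.inl i))) (.inl ())
  · ext i
    exact congrFun (congrFun h (.inr (.inr i))) (.inl ())

/-- Compatibility of a matrix of the Lie algebra with a `3 × 3` matrix. -/
structure Cov (x : Matrix chevG2.Idx chevG2.Idx F) (A B : Matrix (Fin 3) (Fin 3) F) : Prop where
  X_eq : ∀ w : LL F, Xof (x *ᵥ w) = A * Xof w * B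
  v_eq : ∀ w : LL F, vof (x *ᵥ w) = A *ᵥ vof w
  u_eq : ∀ w : LL F, uof (x *ᵥ w) = Bᵀ *ᵥ uof w

theorem Cov.one : Cov (1 : Matrix chevG2.Idx chevG2.Idx F) 1 1 :=
  ⟨fun w => by simp, fun w => by simp, fun w => by simp⟩

theorem Cov.mul {x x' : Matrix chevG2.Idx chevG2.Idx F} {A B A' B' : Matrix (Fin 3) (Fin 3) F}
    (h : Cov x A B) (h' : Cov x' A' B') : Cov (x * x') (A * A') (B' * B) := by
  refine ⟨fun w => ?_, fun w => ?_, fun w => ?_⟩
  · rw [← Matrix.mulVec_mulVec, h.X_eq, h'.X_eq]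
    simp only [Matrix.mul_assoc]
  · rw [← Matrix.mulVec_mulVec, h.v_eq, h'.v_eq, Matrix.mulVec_mulVec]
  · rw [← Matrix.mulVec_mulVec, h.u_eq, h'.u_eq, Matrix.mulVec_mulVec, Matrix.transpose_mul]

theorem Cov.pow {x : Matrix chevG2.Idx chevG2.Idx F} {A B : Matrix (Fin 3) (Fin 3) F}
    (h : Cov x A B) (n : ℕ) : Cov (x ^ n) (A ^ n) (B ^ n) := by
  induction n with
  | zero => simpa using Cov.one
  | succ n ih =>
    rw [pow_succ, pow_succ A, pow_succ' B]
    exact ih.mul h

/-! ### Coordinates determine the vector -/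

/-- The vector with given coordinates. -/
def nu (X : Matrix (Fin 3) (Fin 3) F) (v u : Fin 3 → F) : LL F :=
  Sum.elim (fun i => (![- X 2 2, X 0 0 - X 2 2] : Fin 2 → F) i)
    (fun r => (![X 2 0, X 2 1, v 2, u 0, u 1, X 1 0, X 0 1, v 1, v 0, u 2, X 1 2, X 0 2] : Fin 12 → F) r)

theorem vof_nu (X : Matrix (Fin 3) (Fin 3) F) (v u : Fin 3 → F) : vof (nu X v u) = v := by
  ext i
  fin_cases i <;> rfl

theorem uof_nu (X : Matrix (Fin 3) (Fin 3) F) (v u : Fin 3 → F) : uof (nu X v u) = u := by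
  ext i
  fin_cases i <;> rfl

theorem Xof_nu {X : Matrix (Fin 3) (Fin 3) F} (hX : X.trace = 0) (v u : Fin 3 → F) : Xof (nu X v u) = X := by
  have h0 : X 0 0 + X 1 1 + X 2 2 = 0 := by
    simpa [Matrix.trace, Fin.sum_univ_succ, add_assoc] using hX
  ext i j
  fin_cases i <;> fin_cases j
  all_goals
    first
    | rfl
    | (show (X 0 0 - X 2 2) - (- X 2 2) = X 0 0; ring)
    | (show 2 * (- X 2 2) - (X 0 0 - X 2 2) = X 1 1; linear_combination - h0)
    | (show - (- X 2 2) = X 2 2; ring)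

theorem trace_Xof (w : LL F) : (Xof w).trace = 0 := by
  simp [Xof, Matrix.trace, Fin.sum_univ_succ]
  ring

theorem ext_coord {w w' : LL F} (h1 : Xof w = Xof w') (h2 : vof w = vof w') (h3 : uof w = uof w') : w = w' := by
  have hX : ∀ i j, Xof w i j = Xof w' i j := fun i j => by rw [h1]
  have hv : ∀ i, vof w i = vof w' i := fun i => by rw [h2]
  have hu : ∀ i, uof w i = uof w' i := fun i => by rw [h3]
  have e0 : w (hc 0) = w' (hc 0) := by
    have := hX 2 2
    simpa [Xof] using this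
  have e1 : w (hc 1) = w' (hc 1) := by
    have := hX 0 0
    simp only [Xof, Matrix.of_apply, Matrix.cons_val', Matrix.cons_val_zero, Matrix.cons_val_fin_one] at this
    rw [e0] at this
    exact sub_left_injective this
  funext c
  rcases c with i | r
  · change Fin 2 at i
    fin_cases i
    · exact e0
    · exact e1
  · change Fin 12 at r
    fin_cases r
    · exact hX 2 0
    · exact hX 2 1
    · exact hv 2
    · exact hu 0
    · exact hu 1
    · exact hX 1 0
    · exact hX 0 1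
    · exact hv 1
    · exact hv 0
    · exact hu 2
    · exact hX 1 2
    · exact hX 0 2

theorem nu_of (w : LL F) : nu (Xof w) (vof w) (uof w) = w :=
  ext_coord (Xof_nu (trace_Xof w) _ _) (vof_nu _ _ _) (uof_nu _ _ _)

theorem Cov.eq {x x' : Matrix chevG2.Idx chevG2.Idx F} {A B : Matrix (Fin 3) (Fin 3) F}
    (h : Cov x A B) (h' : Cov x' A B) : x = x' := by
  apply Matrix.ext_iff_mulVec.2 ?_
  intro w
  exact ext_coord (by rw [h.X_eq, h'.X_eq]) (by rw [h.v_eq, h'.v_eq]) (by rw [h.u_eq, h'.u_eq])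

/-! ### From `Rel` to `Cov` -/

theorem Pt_act (x : Matrix chevG2.Idx chevG2.Idx F) (w : LL F) :
    Pt (x *ᵥ w) = ∑ a, w a • act P x a := by
  simp only [Pt, act, Matrix.mulVec, dotProduct, Finset.sum_smul, Finset.smul_sum, smul_smul]
  rw [Finset.sum_comm]
  refine Finset.sum_congr rfl fun a _ => Finset.sum_congr rfl fun c _ => ?_
  rw [mul_comm]

theorem rel_cov {x : Matrix chevG2.Idx chevG2.Idx F} {A B : Matrix (Fin 3) (Fin 3) F} (hAB : A * B = 1)
    (h : Cfsg.Agent.Lib.ChevIso.Act.Rel (D := chevG2) P x (D7 A Bᵀ)) : Cov x A B := by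
  have hyy : D7 A Bᵀ * D7 B Aᵀ = 1 := by
    rw [D7_mul_D7, hAB, ← Matrix.transpose_mul, hAB, Matrix.transpose_one, D7_one]
  have key : ∀ w : LL F, Pt (x *ᵥ w) * D7 A Bᵀ = D7 A Bᵀ * Pt w := by
    intro w
    rw [Pt_act, Finset.sum_mul, Pt, Finset.mul_sum]
    refine Finset.sum_congr rfl fun a _ => ?_
    rw [Matrix.smul_mul, h a, Matrix.mul_smul]
  have key2 : ∀ w : LL F, M7 (Xof (x *ᵥ w)) (vof (x *ᵥ w)) (uof (x *ᵥ w)) =
      M7 (A * Xof w * B) (A *ᵥ vof w) (Bᵀ *ᵥ uof w) := by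
    intro w
    rw [← D7_M7, ← Pt_eq, ← Pt_eq, ← key, Matrix.mul_assoc, hyy, Matrix.mul_one]
  exact ⟨fun w => (M7_inj (key2 w)).1, fun w => (M7_inj (key2 w)).2.1, fun w => (M7_inj (key2 w)).2.2⟩

/-- The long root of a pair of indices. -/
def rt : Fin 3 → Fin 3 → ℕ := ![![6, 6, 11], ![5, 5, 10], ![0, 1, 1]]

theorem rt_mem : ∀ i j, rt i j ∈ lr := by decide

theorem rt_lt (i j : Fin 3) : rt i j < chevG2.nroots := by
  have : ∀ i j, rt i j < 12 := by decide
  exact this i j

theorem bl_cd : ∀ r ∈ lr, ∀ p ∈ bl r, E7.cd (E7.dc p.1) = p.1 ∧ E7.cd (E7.dc p.2.1) = p.2.1 := by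
  decide

lemma code_lt14 (a : chevG2.Idx) : code chevG2 a < 14 := code_lt chevG2 a

theorem rel_root {r : ℕ} (hr : r ∈ lr) (hr' : r < chevG2.nroots) (t : F) :
    Cfsg.Agent.Lib.ChevIso.Act.Rel (D := chevG2) P (chevG2.xMat F ⟨r, hr'⟩ t)
      (1 + t • (matF E7 F (evZ (bl r)) : Matrix I7 I7 F)) := by
  intro a
  have ha := code_lt14 a
  have hchk : chk r (code chevG2 a) = true := by
    have := chk_all
    simp only [List.all_eq_true, List.mem_range] at this
    exact this r hr _ ha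
  simp only [chk, Bool.and_eq_true, List.all_eq_true, decide_eq_true_eq] at hchk
  obtain ⟨hcol, hall⟩ := hchk
  have hrows : ∀ e ∈ xCol chevG2 r (code chevG2 a), e.row < chevG2.rank + chevG2.nroots :=
    fun e he => (hcol e he).2
  rw [act_xMat _ ⟨r, hr'⟩ t a hrows]
  exact rel_col E7 Pz (bl r) (code chevG2 a) (xCol chevG2 r (code chevG2 a)) t
    (fun p hp => (bl_cd r hr p hp).1) (fun p hp => (bl_cd r hr p hp).2) (fun e he => (hcol e he).1)
    (fun i hi j hj => (hall i hi j hj).1.1) (fun i hi j hj => (hall i hi j hj).1.2)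
    (fun i hi j hj => (hall i hi j hj).2)

set_option maxHeartbeats 4000000 in
theorem y_eq {i j : Fin 3} (hij : i ≠ j) (t : F) :
    (1 + t • (matF E7 F (evZ (bl (rt i j))) : Matrix I7 I7 F)) =
      D7 (Matrix.transvection i j t) (Matrix.transvection i j (-t))ᵀ := by
  ext a b
  rcases a with u | a | a <;> rcases b with u' | b | b <;> fin_cases i <;> fin_cases j <;>
    first
    | exact absurd rfl hij
    | (try cases u) <;> (try cases u') <;> (try fin_cases a) <;> (try fin_cases b) <;>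
      simp [D7, E7, matF_apply, bl, evZ, rt, Matrix.transvection, Matrix.single_apply, Matrix.one_apply]

theorem cov_root {i j : Fin 3} (hij : i ≠ j) (t : F) :
    Cov (chevG2.xMat F ⟨rt i j, rt_lt i j⟩ t) (Matrix.transvection i j t) (Matrix.transvection i j (-t)) := by
  apply rel_cov
  · rw [Matrix.transvection_mul_transvection_same i j hij, add_neg_cancel, Matrix.transvection_zero]
  · rw [← y_eq hij]
    exact rel_root (rt_mem i j) (rt_lt i j) t

end Cfsg.Agent.Lib.Classical.Lin.G2Cov
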