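import Mathlib
import Cfsg.Agent.Lib.ChevBN.Cent

/-!
# Diagonal matrices in a Chevalley group lie in `H`
-/

set_option autoImplicit false
set_option linter.unusedSectionVars false

namespace Cfsg.Agent.Lib.Classical.Lin.G2Diag

open Cfsg.Lie Cfsg.Agent.Lib.ChevBN.Elem Cfsg.Agent.Lib.ChevBN.Entries Cfsg.Agent.Lib.ChevBN.Table
open Cfsg.Agent.Lib.ChevBN.Collect Cfsg.Agent.Lib.ChevBN.Rel Cfsg.Agent.Lib.ChevBN.Torus
open Cfsg.Agent.Lib.ChevBN.Monomial Cfsg.Agent.Lib.ChevBN.Core Cfsg.Agent.Lib.ChevBN.Pair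
open Cfsg.Agent.Lib.ChevBN.Stmts Cfsg.Agent.Lib.ChevBN.BruhatForm Cfsg.Agent.Lib.ChevBN.Opp
open Cfsg.Agent.Lib.ChevBN.Cent
open Cfsg.Agent.Lib.ChevOrder.Chev Cfsg.Agent.Lib.ChevOrder.BNCount Cfsg.Agent.Lib.ChevOrder.Cox
open Cfsg.Agent.Lib.ChevTri.Level Cfsg.Agent.Lib.ChevTri.Datum

variable {D : ChevalleyDatum} {F : Type*} [Field F] {η : ℕ → ℕ → ℤ}

/-- A permutation of `Fin n` moving every point upwards is trivial. -/
theorem perm_eq_one_of_le {n : ℕ} (π : Equiv.Perm (Fin n)) (h : ∀ s, s ≤ π s) : π = 1 := by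
  have h1 : ∑ s, ((π s : Fin n) : ℕ) = ∑ s, ((s : Fin n) : ℕ) :=
    Equiv.sum_comp π (fun s => ((s : Fin n) : ℕ))
  have h2 := (Finset.sum_eq_sum_iff_of_le (s := Finset.univ) (f := fun s : Fin n => (s : ℕ))
    (g := fun s => ((π s : Fin n) : ℕ)) (fun s _ => h s)).1 h1.symm
  ext s
  exact (h2 s (Finset.mem_univ s)).symm

variable (hR : Sys D F η) (hT : Tbl D)
include hR hT

theorem mem_B_of_mono_upper {n : GL D.Idx F} (hn : n ∈ D.monomialSubgroup F)
    (hl : HasLevel (lev D) 0 (n : Matrix D.Idx D.Idx F)) : n ∈ D.borelSubgroup F := by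
  have hm := mem_mono_of_N hR hT hn
  have hperm : permOf ⟨n, hm⟩ = 1 := by
    apply perm_eq_one_of_le
    intro s
    have h1 := col_ne_zero hm (permOf_spec ⟨n, hm⟩) s
    have h2 := hl _ _ h1
    simp only [lev] at h2
    rw [Fin.le_def]
    split_ifs at h2 <;> omega
  apply mem_B_of_conj hR hT (N_le_G hR hT hn)
  intro i hi
  obtain ⟨κ, hκ, h1⟩ := conj_of_mem_N hR hT hn hm ⟨D.simple i, hT.simple_lt hi⟩
  refine ⟨1, one_ne_zero, ?_⟩
  rw [h1 1, hperm]
  exact U_le_B hR hT (X_mem_U hR hT (hT.simple_pos i hi) _)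

theorem mem_B_of_upper {g : GL D.Idx F} (hg : g ∈ D.group F)
    (hd : HasLevel (lev D) 0 (g : Matrix D.Idx D.Idx F)) : g ∈ D.borelSubgroup F := by
  obtain ⟨b, hb, n, hn, u, hu, rfl⟩ := normal_form_exists hR hT hg
  have huB : u ∈ D.borelSubgroup F := U_le_B hR hT (Un_le_U hR hT n hu)
  have e : n = b⁻¹ * (b * n * u) * u⁻¹ := by group
  have h1 : HasLevel (lev D) 0 (((b⁻¹ : GL D.Idx F) : Matrix D.Idx D.Idx F)) :=
    upper_of_mem_B hR hT (Subgroup.inv_mem _ hb)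
  have h2 : HasLevel (lev D) 0 (((u⁻¹ : GL D.Idx F) : Matrix D.Idx D.Idx F)) :=
    upper_of_mem_B hR hT (Subgroup.inv_mem _ huB)
  have h3 : HasLevel (lev D) 0 (n : Matrix D.Idx D.Idx F) := by
    rw [e, Units.val_mul, Units.val_mul]
    simpa using (h1.mul hd).mul h2
  exact Subgroup.mul_mem _ (Subgroup.mul_mem _ hb (mem_B_of_mono_upper hR hT hn h3)) huB

/-- A diagonal matrix in the group lies in `H`. -/
theorem diag_mem_H {g : GL D.Idx F} (hg : g ∈ D.group F) (χ : Fin D.nroots → F)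
    (hχ : (g : Matrix D.Idx D.Idx F) = dgMat D χ) : g ∈ D.diagonalSubgroup F := by
  have hB : g ∈ D.borelSubgroup F := by
    apply mem_B_of_upper hR hT hg
    rw [hχ]
    exact hasLevel_dg hR hT χ
  obtain ⟨u, hu, h, hh, e⟩ := (mem_B_iff hR hT).mp hB
  have hgm : g ∈ monoSub D F := by
    change IsMono _
    rw [hχ]
    exact isMono_dg χ
  have hhm : h ∈ monoSub D F := by
    obtain ⟨κ, -, h1, -⟩ := exists_of_mem_H hR hT hh
    change IsMono _
    rw [h1]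
    exact isMono_dg _
  have hum : u ∈ monoSub D F := by
    have : u = g * h⁻¹ := by rw [e]; group
    rw [this]
    exact Subgroup.mul_mem _ hgm (Subgroup.inv_mem _ hhm)
  have h1 := unit_of_monoSub_inf hT hu hum
  rw [e, h1, one_mul]
  exact hh

end Cfsg.Agent.Lib.Classical.Lin.G2Diag
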