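import Mathlib
import Cfsg.Agent.Lib.Classical.Lin.G2Cov
import Cfsg.Agent.Lib.Classical.Lin.Transvections
import Cfsg.Agent.Lib.Chevalley.Tbl.G2Sys
import Cfsg.Agent.Lib.ChevBN.FastData
import Cfsg.Agent.Lib.Classical.Lin.G2Diag

/-!
# `SL₃` and the bracket in the group `G₂`
-/

set_option autoImplicit false
set_option linter.unusedSectionVars false
set_option linter.unusedSimpArgs false
set_option linter.unusedVariables false
set_option linter.unnecessarySeqFocus false

namespace Cfsg.Agent.Lib.Classical.Lin.G2Grp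

open Cfsg.Lie Matrix Cfsg.Agent.Lib.Chevalley.Reflect Cfsg.Agent.Lib.ChevIso.Act
open Cfsg.Agent.Lib.ChevIso.Bracket Cfsg.Agent.Lib.Classical.Lin.G2Tbl
open Cfsg.Agent.Lib.Classical.Lin.G2Coord Cfsg.Agent.Lib.Classical.Lin.G2Cov
open Cfsg.Agent.Lib.ChevBN.Elem

variable {F : Type*} [Field F]

/-- The relations of the group. -/
theorem hR : Cfsg.Agent.Lib.ChevBN.Rel.Sys chevG2 F (Cfsg.Agent.Lib.Chevalley.SysOf.etaOf
    Cfsg.Agent.Lib.Chevalley.Tbl.G2.wT) := Cfsg.Agent.Lib.Chevalley.Tbl.G2.sys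

/-- Every element of `SL₃(F)` is realised in the group. -/
theorem exists_sl (M : SpecialLinearGroup (Fin 3) F) :
    ∃ g : GL chevG2.Idx F, g ∈ chevG2.group F ∧
      Cov (g : Matrix chevG2.Idx chevG2.Idx F) (M : Matrix (Fin 3) (Fin 3) F)
        ((M⁻¹ : SpecialLinearGroup (Fin 3) F) : Matrix (Fin 3) (Fin 3) F) := by
  have hA := (hR (F := F)).toAddRel
  refine Cfsg.Agent.Lib.Classical.Lin.Transvections.transvection_induction (F := F)
    (fun M => ∃ g : GL chevG2.Idx F, g ∈ chevG2.group F ∧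
      Cov (g : Matrix chevG2.Idx chevG2.Idx F) (M : Matrix (Fin 3) (Fin 3) F)
        ((M⁻¹ : SpecialLinearGroup (Fin 3) F) : Matrix (Fin 3) (Fin 3) F)) ?_ ?_ M
  · intro i j hij a
    refine ⟨X hA (rt i j) a, ?_, ?_⟩
    · rw [group_eq hA]
      exact X_mem_gen hA (Ψ := {r | r < chevG2.nroots}) (rt_lt i j) a
    · rw [coe_X, x_eq_xMat chevG2 (rt_lt i j), SpecialLinearGroup.transvection_inv,
        SpecialLinearGroup.transvection_coe, SpecialLinearGroup.transvection_coe]
      exact cov_root hij a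
  · rintro A B ⟨g, hg, hgc⟩ ⟨g', hg', hgc'⟩
    refine ⟨g * g', Subgroup.mul_mem _ hg hg', ?_⟩
    have e1 : ((A * B : SpecialLinearGroup (Fin 3) F) : Matrix (Fin 3) (Fin 3) F) =
        (A : Matrix (Fin 3) (Fin 3) F) * (B : Matrix (Fin 3) (Fin 3) F) := rfl
    have e2 : (((A * B)⁻¹ : SpecialLinearGroup (Fin 3) F) : Matrix (Fin 3) (Fin 3) F) =
        ((B⁻¹ : SpecialLinearGroup (Fin 3) F) : Matrix (Fin 3) (Fin 3) F) *
          ((A⁻¹ : SpecialLinearGroup (Fin 3) F) : Matrix (Fin 3) (Fin 3) F) := by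
      rw [_root_.mul_inv_rev]
      rfl
    rw [Units.val_mul, e1, e2]
    exact hgc.mul hgc'

/-- Root elements preserve the bracket. -/
theorem aut_root (s : Fin 12) (t : F) : IsAut chevG2 cl (chevG2.xMat F s t) := by
  apply isAut_of_basis
  intro a b
  have hs : (s : ℕ) < 12 := s.2
  have h := x_aut_basis (F := F) (D := chevG2) (col := cl)
    Cfsg.Agent.Lib.Chevalley.Tbl.G2.colOK s hs t a b (by
    have := bchk_all
    simp only [List.all_eq_true, List.mem_range] at this
    exact this s hs _ (code_lt14 a) _ (code_lt14 b))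
  rwa [x_eq_xMat chevG2 hs] at h

theorem aut_of_mem {g : GL chevG2.Idx F} (hg : g ∈ chevG2.group F) :
    IsAut chevG2 cl (g : Matrix chevG2.Idx chevG2.Idx F) := by
  rw [ChevalleyDatum.group] at hg
  induction hg using Subgroup.closure_induction with
  | mem x hx =>
    obtain ⟨r, t, hx⟩ := hx
    rw [hx]
    exact aut_root r t
  | one => exact IsAut.one
  | mul x y _ _ hx hy => rw [Units.val_mul]; exact hx.mul hy
  | inv x _ hx =>
    exact hx.inv (by rw [← Units.val_mul, mul_inv_cancel, Units.val_one])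
      (by rw [← Units.val_mul, inv_mul_cancel, Units.val_one])

/-! ### The bracket of `sl₃` with `V ⊕ V*` -/

theorem Pt_add (w w' : LL F) : Pt (w + w') = Pt w + Pt w' := by
  simp only [Pt, Pi.add_apply, add_smul, Finset.sum_add_distrib]

theorem Pt_smul (c : F) (w : LL F) : Pt (c • w) = c • Pt w := by
  simp only [Pt, Pi.smul_apply, smul_eq_mul, Finset.smul_sum, smul_smul]

theorem Pt_zero : Pt (0 : LL F) = 0 := by
  simp [Pt]

theorem Pt_sum {ι : Type*} (s : Finset ι) (f : ι → LL F) : Pt (∑ i ∈ s, f i) = ∑ i ∈ s, Pt (f i) := by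
  classical
  induction s using Finset.induction_on with
  | empty => simp [Pt_zero]
  | insert a s ha ih => rw [Finset.sum_insert ha, Finset.sum_insert ha, Pt_add, ih]

theorem Pt_vP (L : List (ℕ × ℤ)) (hL : ∀ p ∈ L, p.1 < 14) :
    Pt (vP chevG2 F L) = (L.map fun p => ((p.2 : ℤ) : F) • (P p.1 : Matrix I7 I7 F)).sum := by
  classical
  induction L with
  | nil =>
    have : vP chevG2 F [] = 0 := by funext k; simp [vP]
    simp [this, Pt_zero]
  | cons p L ih =>
    have e : vP chevG2 F (p :: L) = (fun k => if p.1 = code chevG2 k then ((p.2 : ℤ) : F) else 0) + vP chevG2 F L := by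
      funext k
      simp [vP]
    rw [e, Pt_add, ih (fun x hx => hL x (List.mem_cons_of_mem _ hx))]
    simp only [List.map_cons, List.sum_cons]
    congr 1
    obtain ⟨c₀, hc₀⟩ := code_surj chevG2 (hL p List.mem_cons_self)
    rw [Pt, Finset.sum_eq_single c₀]
    · rw [hc₀]
      simp
    · intro c _ hc
      rw [if_neg, zero_smul]
      intro h
      rw [← hc₀] at h
      exact hc (code_inj chevG2 h).symm
    · simp

theorem cd_dc_lt {k : ℕ} (hk : k < 7) : E7.cd (E7.dc k) = k := by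
  interval_cases k <;> rfl

theorem pl_lt : ∀ k ∈ slc ++ shc, ∀ p ∈ pl k, p.1 < 7 ∧ p.2.1 < 7 := by
  decide

theorem P_eq_evZ (k : ℕ) : (P k : Matrix I7 I7 F) = matF E7 F (evZ (pl k)) := rfl

theorem P_br {k l : ℕ} (hk : k ∈ slc) (hl : l ∈ shc) :
    ((cB chevG2 cl k l).map fun p => ((p.2 : ℤ) : F) • (P p.1 : Matrix I7 I7 F)).sum =
      P k * P l - P l * P k := by
  have hchk := brchk_all
  simp only [List.all_eq_true, Bool.and_eq_true, decide_eq_true_eq] at hchk
  have h1 := hchk k hk l hl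
  have hpl : ∀ p ∈ pl k, p.1 < 7 ∧ p.2.1 < 7 := pl_lt k (List.mem_append_left _ hk)
  rw [P_eq_evZ k]
  have e1 : matF E7 F (evZ (pl k)) * (P l : Matrix I7 I7 F) = matF E7 F (Lz (pl k) (Pz l)) :=
    mul_left E7 (pl k) (fun p hp => cd_dc_lt (hpl p hp).2) (Pz l)
  have e2 : (P l : Matrix I7 I7 F) * matF E7 F (evZ (pl k)) = matF E7 F (Rz (pl k) (Pz l)) :=
    mul_right E7 (pl k) (fun p hp => cd_dc_lt (hpl p hp).1) (Pz l)
  rw [e1, e2]
  ext a b
  have h2 := (h1 _ (E7.mem a) _ (E7.mem b)).1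
  have e3 : ∀ L : List (ℕ × ℤ), ((L.map fun p => ((p.2 : ℤ) : F) • (P p.1 : Matrix I7 I7 F)).sum) a b =
      (((L.map fun p => p.2 * Pz p.1 (E7.cd a) (E7.cd b)).sum : ℤ) : F) := by
    intro L
    induction L with
    | nil => simp
    | cons p L ih =>
      simp only [List.map_cons, List.sum_cons, Matrix.add_apply, ih, Matrix.smul_apply, smul_eq_mul,
        Int.cast_add, Int.cast_mul]
      rfl
  rw [e3, h2]
  simp only [Matrix.sub_apply, matF_apply, Int.cast_sub]

theorem brRows {k l : ℕ} (hk : k ∈ slc) (hl : l ∈ shc) : ∀ p ∈ cB chevG2 cl k l, p.1 < 14 := by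
  have hchk := brchk_all
  simp only [List.all_eq_true, Bool.and_eq_true, decide_eq_true_eq] at hchk
  exact (hchk k hk l hl 0 (by decide) 0 (by decide)).2

theorem Pt_br (w₁ w₂ : LL F) (h₁ : ∀ a, code chevG2 a ∉ slc → w₁ a = 0)
    (h₂ : ∀ b, code chevG2 b ∉ shc → w₂ b = 0) :
    Pt (brL chevG2 cl w₁ w₂) = Pt w₁ * Pt w₂ - Pt w₂ * Pt w₁ := by
  rw [brL_apply, Pt_sum]
  have e : ∀ a b, Pt ((w₁ a * w₂ b) • vP chevG2 F (cB chevG2 cl (code chevG2 a) (code chevG2 b))) =
      (w₁ a * w₂ b) • ((P (code chevG2 a) : Matrix I7 I7 F) * P (code chevG2 b) -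
        P (code chevG2 b) * P (code chevG2 a)) := by
    intro a b
    rw [Pt_smul]
    by_cases ha : code chevG2 a ∈ slc
    · by_cases hb : code chevG2 b ∈ shc
      · rw [Pt_vP _ (brRows ha hb), P_br ha hb]
      · rw [h₂ b hb, mul_zero, zero_smul, zero_smul]
    · rw [h₁ a ha, zero_mul, zero_smul, zero_smul]
  simp only [Pt_sum, e]
  simp only [Pt, Finset.sum_mul, Finset.mul_sum, Matrix.smul_mul, Matrix.mul_smul, smul_smul, smul_sub,
    Finset.sum_sub_distrib]
  congr 1
  rw [Finset.sum_comm]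
  exact Finset.sum_congr rfl fun x _ => Finset.sum_congr rfl fun y _ => by rw [mul_comm]

theorem M7_comm (X : Matrix (Fin 3) (Fin 3) F) (v u : Fin 3 → F) :
    M7 X 0 0 * M7 0 v u - M7 0 v u * M7 X 0 0 = M7 0 (X *ᵥ v) (-(Xᵀ *ᵥ u)) := by
  ext a b
  rw [Matrix.sub_apply, Matrix.mul_apply, Matrix.mul_apply, Fintype.sum_sum_type, Fintype.sum_sum_type,
    Fintype.sum_sum_type, Fintype.sum_sum_type]
  rcases a with u' | i | i <;> rcases b with u'' | j | j <;>
    simp [M7, Matrix.mulVec, dotProduct, Finset.sum_neg_distrib]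
  · exact Finset.sum_congr rfl fun x _ => mul_comm _ _
  · exact Finset.sum_congr rfl fun x _ => mul_comm _ _

/-- A vector with vanishing `V ⊕ V*` coordinates. -/
theorem sl_support {w : LL F} (h1 : vof w = 0) (h2 : uof w = 0) :
    ∀ a, code chevG2 a ∉ slc → w a = 0 := by
  have hv : ∀ i, vof w i = 0 := fun i => by rw [h1]; rfl
  have hu : ∀ i, uof w i = 0 := fun i => by rw [h2]; rfl
  rintro (i | r) h
  · change Fin 2 at i
    fin_cases i <;> exact absurd (by decide) h
  · change Fin 12 at r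
    fin_cases r
    · exact absurd (by decide) h
    · exact absurd (by decide) h
    · exact hv 2
    · exact hu 0
    · exact hu 1
    · exact absurd (by decide) h
    · exact absurd (by decide) h
    · exact hv 1
    · exact hv 0
    · exact hu 2
    · exact absurd (by decide) h
    · exact absurd (by decide) h

/-- A vector with vanishing `sl₃` coordinates. -/
theorem sh_support {w : LL F} (h1 : Xof w = 0) :
    ∀ a, code chevG2 a ∉ shc → w a = 0 := by
  have hX : ∀ i j, Xof w i j = 0 := fun i j => by rw [h1]; rfl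
  have e0 : w (hc 0) = 0 := by
    have := hX 2 2
    simpa [Xof] using this
  have e1 : w (hc 1) = 0 := by
    have := hX 0 0
    simpa [Xof, e0] using this
  rintro (i | r) h
  · change Fin 2 at i
    fin_cases i
    · exact e0
    · exact e1
  · change Fin 12 at r
    fin_cases r
    · exact hX 2 0
    · exact hX 2 1
    · exact absurd (by decide) h
    · exact absurd (by decide) h
    · exact absurd (by decide) h
    · exact hX 1 0
    · exact hX 0 1
    · exact absurd (by decide) h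
    · exact absurd (by decide) h
    · exact absurd (by decide) h
    · exact hX 1 2
    · exact hX 0 2

/-- The bracket of `sl₃` with `V ⊕ V*` in coordinates. -/
theorem br_coord {w₁ w₂ : LL F} (h1 : vof w₁ = 0) (h2 : uof w₁ = 0) (h3 : Xof w₂ = 0) :
    Xof (brL chevG2 cl w₁ w₂) = 0 ∧ vof (brL chevG2 cl w₁ w₂) = Xof w₁ *ᵥ vof w₂ ∧
      uof (brL chevG2 cl w₁ w₂) = -((Xof w₁)ᵀ *ᵥ uof w₂) := by
  have h := Pt_br w₁ w₂ (sl_support h1 h2) (sh_support h3)
  rw [Pt_eq, Pt_eq w₁, Pt_eq w₂, h1, h2, h3, M7_comm] at h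
  exact M7_inj h

/-! ### Diagonal elements -/

/-- The table of the group. -/
theorem hT : Cfsg.Agent.Lib.ChevBN.Table.Tbl chevG2 := Cfsg.Agent.Lib.ChevBN.FastData.tbl_chevG2

/-- Weights of diagonal elements of the group: a diagonal element of the group with the given weights
has trivial weights. -/
theorem weights_eq_one {g : GL chevG2.Idx F} (hg : g ∈ chevG2.group F) {δ c : F} (hδ : δ ≠ 0)
    (hc : c ≠ 0)
    (hd : (g : Matrix chevG2.Idx chevG2.Idx F) = Cfsg.Agent.Lib.ChevBN.Rel.dgMat chevG2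
      (fun r : Fin 12 => (![δ⁻¹, 1, 1, c * δ⁻¹, c, δ⁻¹, δ, 1, δ, c, 1, δ] : Fin 12 → F) r)) :
    δ = 1 ∧ c = 1 := by
  have hH := Cfsg.Agent.Lib.Classical.Lin.G2Diag.diag_mem_H hR hT hg _ hd
  rw [Cfsg.Agent.Lib.ChevBN.Torus.diagonal_eq hR hT] at hH
  obtain ⟨κ, hκ, rfl⟩ := hH
  have h1 := Cfsg.Agent.Lib.ChevBN.Torus.coe_hP hR hκ
  rw [h1] at hd
  have key : ∀ s : Fin 12, Cfsg.Agent.Lib.ChevBN.Rel.chi chevG2 κ s =
      (![δ⁻¹, 1, 1, c * δ⁻¹, c, δ⁻¹, δ, 1, δ, c, 1, δ] : Fin 12 → F) s := by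
    intro s
    have h2 := congrFun (congrFun hd (Sum.inr s)) (Sum.inr s)
    simp only [Cfsg.Agent.Lib.ChevBN.Rel.dgMat, Matrix.diagonal_apply_eq] at h2
    exact h2
  have hchi : ∀ s : ℕ, Cfsg.Agent.Lib.ChevBN.Rel.chi chevG2 κ s =
      κ 0 ^ chevG2.cartan 0 s * κ 1 ^ chevG2.cartan 1 s := by
    intro s
    show ((List.range 2).map fun j => κ j ^ chevG2.cartan j s).prod = _
    simp [List.range_succ]
  have h2 := key 2
  have h7 := key 7
  have h8 := key 8
  have h4 := key 4
  rw [show ((2 : Fin 12) : ℕ) = 2 from rfl, hchi, show chevG2.cartan 0 2 = -1 from rfl,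
    show chevG2.cartan 1 2 = 0 from rfl] at h2
  rw [show ((7 : Fin 12) : ℕ) = 7 from rfl, hchi, show chevG2.cartan 0 7 = 2 from rfl,
    show chevG2.cartan 1 7 = -1 from rfl] at h7
  rw [show ((8 : Fin 12) : ℕ) = 8 from rfl, hchi, show chevG2.cartan 0 8 = -1 from rfl,
    show chevG2.cartan 1 8 = 1 from rfl] at h8
  rw [show ((4 : Fin 12) : ℕ) = 4 from rfl, hchi, show chevG2.cartan 0 4 = -2 from rfl,
    show chevG2.cartan 1 4 = 1 from rfl] at h4
  have hC : κ 0 = 1 := by
    simpa using h2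
  have hE : κ 1 = 1 := by
    rw [hC] at h7
    simpa using h7
  rw [hC, hE] at h8 h4
  constructor
  · simpa using h8.symm
  · simpa using h4.symm

end Cfsg.Agent.Lib.Classical.Lin.G2Grp
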